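import Groth.Prelude.Def_KLin
import Groth.Prelude.Def_ClSub2
import Groth.Prelude.Def_Pi1
import Groth.Agent.IntMultLib.Cartier
import Groth.Agent.GenFlatStrat.FGExtend
import Groth.Agent.LocFFLib.Basic
import Groth.Agent.H0Lib.Field
import Groth.Agent.AbSchLib.Flat
import Groth.Agent.BiextRigidLib.Main
import Groth.Agent.CurveQuotLib.Main

/-!
# Endomorphisms of an ideal on a normal variety are scalars
-/

set_option autoImplicit false
set_option linter.style.haveILetI false
set_option backward.isDefEq.respectTransparency false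
set_option backward.isDefEq.respectTransparency.types false
universe u

open CategoryTheory CategoryTheory.Limits AlgebraicGeometry TopologicalSpace Opposite

noncomputable section

namespace IdealTypeLib

variable {X : Scheme.{u}}

/-- A section of an ideal module, as a function. -/
abbrev fn (W : X.IdealSheafData) (V : X.Opens) (s : Γ(ClSub.idealMod W, V)) : Γ(X, V) :=
  (ClSub.idealModι W).app V s

theorem fn_mul_comm (W : X.IdealSheafData) (V : X.Opens) (a : ClSub.idealMod W ⟶ ClSub.idealMod W)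
    (s t : Γ(ClSub.idealMod W, V)) : fn W V (a.app V s) * fn W V t = fn W V (a.app V t) * fn W V s := by
  have h : fn W V t • s = fn W V s • t := by
    apply IntMultLib.idealModι_app_injective W V
    show fn W V (fn W V t • s) = fn W V (fn W V s • t)
    rw [show fn W V (fn W V t • s) = fn W V t * fn W V s from IntMultLib.idealModι_smul W V _ s,
      show fn W V (fn W V s • t) = fn W V s * fn W V t from IntMultLib.idealModι_smul W V _ t, mul_comm]
  have h1 : fn W V t • a.app V s = fn W V s • a.app V t :=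
    (QCohLib.app_smul a V _ s).symm.trans ((congrArg (a.app V) h).trans (QCohLib.app_smul a V _ t))
  have h2 : fn W V t * fn W V (a.app V s) = fn W V s * fn W V (a.app V t) :=
    ((IntMultLib.idealModι_smul W V _ _).symm.trans (congrArg (fn W V) h1)).trans (IntMultLib.idealModι_smul W V _ _)
  rw [mul_comm (fn W V (a.app V s)), h2, mul_comm]

variable [IsIntegral X]

theorem ideal_ne_bot {W : X.IdealSheafData} (hW : W ≠ ⊥) (V : X.affineOpens) [Nonempty (V : X.Opens)] :
    W.ideal V ≠ ⊥ := fun h => hW <| by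
  rw [← Scheme.IdealSheafData.support_eq_top_iff]
  have hη : genericPoint X ∈ (V : X.Opens) := ((genericPoint_spec X).mem_open_set_iff (V : X.Opens).2).2 (by
    obtain ⟨⟨x, hx⟩⟩ := ‹Nonempty (V : X.Opens)›
    exact ⟨x, trivial, hx⟩)
  have hs : genericPoint X ∈ W.support := by
    have h2 : genericPoint X ∈ (W.support : Set X) ∩ (V : X.Opens) := by
      rw [Scheme.IdealSheafData.coe_support_inter, h]
      simp [hη]
    exact h2.1
  refine top_le_iff.1 fun x _ => ?_
  exact (genericPoint_specializes x).mem_closed W.support.isClosed hs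

variable [IsLocallyNoetherian X]

/-- On an affine open an endomorphism of an ideal is multiplication by a function. -/
theorem exists_mult (hX : Pi1.IsNormalScheme X) {W : X.IdealSheafData} (hW : W ≠ ⊥)
    (a : ClSub.idealMod W ⟶ ClSub.idealMod W) (V : X.affineOpens) [Nonempty (V : X.Opens)] :
    ∃ g : Γ(X, V.1), ∀ s : Γ(ClSub.idealMod W, V.1), fn W V.1 (a.app V.1 s) = g * fn W V.1 s := by
  haveI := LocFFLib.isIntegrallyClosed_sections hX V.1
  haveI : IsNoetherianRing Γ(X, V.1) := IsLocallyNoetherian.component_noetherian V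
  haveI := functionField_isFractionRing_of_isAffineOpen X V.1 V.2
  obtain ⟨y, hy, hy0⟩ := Submodule.exists_mem_ne_zero_of_ne_bot (ideal_ne_bot hW V)
  obtain ⟨v, hv⟩ := GenFlatStrat.exists_idealMod_section W V y hy
  let al := algebraMap Γ(X, V.1) X.functionField
  have hinj : Function.Injective al := IsFractionRing.injective _ _
  have hv0 : al (fn W V.1 v) ≠ 0 := by
    intro h
    exact hy0 (hv.symm.trans (hinj (h.trans (map_zero al).symm)))
  let c : X.functionField := al (fn W V.1 (a.app V.1 v)) / al (fn W V.1 v)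
  have hc : ∀ s, al (fn W V.1 (a.app V.1 s)) = c * al (fn W V.1 s) := fun s => by
    rw [div_mul_eq_mul_div, eq_div_iff hv0, ← map_mul, ← map_mul, fn_mul_comm]
  let N : Submodule Γ(X, V.1) X.functionField :=
    Submodule.map (Algebra.linearMap Γ(X, V.1) X.functionField) (W.ideal V)
  have hint : IsIntegral Γ(X, V.1) c := by
    refine isIntegral_of_smul_mem_submodule N ?_ ((IsNoetherian.noetherian _).map _) c ?_
    · rw [Submodule.ne_bot_iff]
      exact ⟨al y, ⟨y, hy, rfl⟩, fun h => hy0 (hinj (h.trans (map_zero al).symm))⟩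
    · rintro _ ⟨w, hw, rfl⟩
      obtain ⟨s, hs⟩ := GenFlatStrat.exists_idealMod_section W V w hw
      refine ⟨fn W V.1 (a.app V.1 s), GenFlatStrat.idealModι_mem W V _, ?_⟩
      show al _ = c • al w
      rw [smul_eq_mul, ← hs]
      exact hc s
  obtain ⟨g, hg⟩ := IsIntegrallyClosed.isIntegral_iff.1 hint
  exact ⟨g, fun s => hinj (by rw [map_mul, hc s, ← hg])⟩

theorem eq_of_mult {W : X.IdealSheafData} (hW : W ≠ ⊥)
    (a : ClSub.idealMod W ⟶ ClSub.idealMod W) {V V' : X.affineOpens} (h : V'.1 ≤ V.1) [Nonempty (V' : X.Opens)]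
    {g : Γ(X, V.1)} {g' : Γ(X, V'.1)} (hg : ∀ s, fn W V.1 (a.app V.1 s) = g * fn W V.1 s)
    (hg' : ∀ s, fn W V'.1 (a.app V'.1 s) = g' * fn W V'.1 s) :
    X.presheaf.map (homOfLE h).op g = g' := by
  haveI : Nonempty (V : X.Opens) := ‹Nonempty (V' : X.Opens)›.map fun x => ⟨x.1, h x.2⟩
  obtain ⟨y, hy, hy0⟩ := Submodule.exists_mem_ne_zero_of_ne_bot (ideal_ne_bot hW V)
  obtain ⟨v, hv⟩ := GenFlatStrat.exists_idealMod_section W V y hy
  have hne : X.presheaf.map (homOfLE h).op y ≠ 0 := fun h0 => hy0 (by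
    apply X.germToFunctionField_injective V.1
    rw [map_zero]
    have := congrArg (X.germToFunctionField V'.1) h0
    rw [map_zero] at this
    exact (TopCat.Presheaf.germ_res_apply X.presheaf (homOfLE h) _ _ _).symm.trans this)
  let v' := (ClSub.idealMod W).presheaf.map (homOfLE h).op v
  have e1 : fn W V'.1 v' = X.presheaf.map (homOfLE h).op y := by
    rw [← hv]; exact QCohLib.app_map (ClSub.idealModι W) (homOfLE h) v
  have e2 : fn W V'.1 (a.app V'.1 v') = X.presheaf.map (homOfLE h).op (g * y) := by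
    rw [show a.app V'.1 v' = (ClSub.idealMod W).presheaf.map (homOfLE h).op (a.app V.1 v) from
      QCohLib.app_map a (homOfLE h) v]
    refine (QCohLib.app_map (ClSub.idealModι W) (homOfLE h) (a.app V.1 v)).trans ?_
    exact congrArg (X.presheaf.map (homOfLE h).op) ((hg v).trans (congrArg (g * ·) hv))
  have := hg' v'
  rw [e1, e2, map_mul] at this
  exact mul_right_cancel₀ hne this

/-- Endomorphisms of an ideal on a normal separated integral scheme are global functions. -/
theorem exists_global [X.IsSeparated] (hX : Pi1.IsNormalScheme X) {W : X.IdealSheafData} (hW : W ≠ ⊥)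
    (a : ClSub.idealMod W ⟶ ClSub.idealMod W) :
    ∃ g : Γ(X, ⊤), a = Formal.smulModΓ (ClSub.idealMod W) g := by
  let ι := {V : X.affineOpens // Nonempty (V : X.Opens)}
  haveI : ∀ i : ι, Nonempty (i.1 : X.Opens) := fun i => i.2
  choose g hg using fun i : ι => exists_mult hX hW a i.1
  have hne : ∀ i j : ι, Nonempty (i.1.1 ⊓ j.1.1 : X.Opens) := fun i j => by
    obtain ⟨⟨x, hx⟩⟩ := i.2
    obtain ⟨⟨y, hy⟩⟩ := j.2
    exact ⟨⟨genericPoint X, ((genericPoint_spec X).mem_open_set_iff i.1.1.2).2 ⟨x, trivial, hx⟩,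
      ((genericPoint_spec X).mem_open_set_iff j.1.1.2).2 ⟨y, trivial, hy⟩⟩⟩
  have hcov : (⊤ : X.Opens) ≤ iSup fun i : ι => i.1.1 := fun x _ => by
    obtain ⟨V, hV, hxV, -⟩ := exists_isAffineOpen_mem_and_subset (show x ∈ (⊤ : X.Opens) from trivial)
    exact Opens.mem_iSup.2 ⟨⟨⟨V, hV⟩, ⟨⟨x, hxV⟩⟩⟩, hxV⟩
  obtain ⟨G, hG, -⟩ := X.sheaf.existsUnique_gluing' (fun i : ι => i.1.1) ⊤ (fun i => homOfLE le_top) hcov g
    (fun i j => by
      let k : ι := ⟨⟨i.1.1 ⊓ j.1.1, i.1.2.inf j.1.2⟩, hne i j⟩
      exact (eq_of_mult hW a (V := i.1) (V' := k.1) inf_le_left (hg i) (hg k)).trans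
        (eq_of_mult hW a (V := j.1) (V' := k.1) inf_le_right (hg j) (hg k)).symm)
  refine ⟨G, ?_⟩
  haveI : Mono (ClSub.idealModι W) := inferInstanceAs (Mono (kernel.ι _))
  refine (cancel_mono (ClSub.idealModι W)).1 (Scheme.Modules.hom_ext _ _ fun U => ?_)
  ext s
  show fn W U (a.app U s) = fn W U ((Formal.smulModΓ (ClSub.idealMod W) G).app U s)
  rw [KLin.smulModΓ_app_apply, show fn W U (X.presheaf.map (homOfLE (le_top : U ≤ ⊤)).op G • s) =
    X.presheaf.map (homOfLE (le_top : U ≤ ⊤)).op G * fn W U s from IntMultLib.idealModι_smul W U _ s]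
  by_cases hU : Nonempty (U : X.Opens)
  · obtain ⟨⟨x, hx⟩⟩ := hU
    obtain ⟨V, hV, hxV, hVU⟩ := exists_isAffineOpen_mem_and_subset hx
    haveI : Nonempty (U : X.Opens) := ⟨⟨x, hx⟩⟩
    haveI : Nonempty (V : X.Opens) := ⟨⟨x, hxV⟩⟩
    have hinj : Function.Injective (X.presheaf.map (homOfLE (show V ≤ U from hVU)).op) := fun y z h => by
      apply X.germToFunctionField_injective U
      have := congrArg (X.germToFunctionField V) h
      exact ((TopCat.Presheaf.germ_res_apply X.presheaf (homOfLE (show V ≤ U from hVU)) _ _ y).symm.trans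
        this).trans (TopCat.Presheaf.germ_res_apply X.presheaf (homOfLE (show V ≤ U from hVU)) _ _ z)
    apply hinj
    let i : ι := ⟨⟨V, hV⟩, ⟨⟨x, hxV⟩⟩⟩
    refine (QCohLib.app_map (ClSub.idealModι W) (homOfLE hVU) (a.app U s)).symm.trans ?_
    refine (congrArg (fn W V) (QCohLib.app_map a (homOfLE hVU) s).symm).trans ?_
    refine (hg i _).trans ?_
    rw [map_mul]
    refine congrArg₂ (· * ·) ?_ (QCohLib.app_map (ClSub.idealModι W) (homOfLE hVU) s)
    refine (hG i).symm.trans ?_
    rw [← ConcreteCategory.comp_apply, ← X.presheaf.map_comp]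
    rfl
  · have hb : U = ⊥ := by
      ext x
      exact ⟨fun hx => absurd ⟨⟨x, hx⟩⟩ hU, fun hx => hx.elim⟩
    haveI : Subsingleton Γ(X, U) := by
      rw [hb]
      exact CommRingCat.subsingleton_of_isTerminal X.sheaf.isTerminalOfEmpty
    exact Subsingleton.elim _ _

/-- Endomorphisms of an ideal on a smooth proper geometrically irreducible variety are scalars. -/
theorem exists_scalar {K : Type u} [Field K] [X.Over (Spec (CommRingCat.of K))]
    [Smooth (X ↘ Spec (CommRingCat.of K))] [IsProper (X ↘ Spec (CommRingCat.of K))]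
    [GeometricallyIrreducible (X ↘ Spec (CommRingCat.of K))] {W : X.IdealSheafData} (hW : W ≠ ⊥)
    (a : ClSub.idealMod W ⟶ ClSub.idealMod W) : ∃ c : K, a = c • 𝟙 (ClSub.idealMod W) := by
  let p := X ↘ Spec (CommRingCat.of K)
  haveI : X.IsSeparated := ⟨by rw [terminal.hom_ext (terminal.from X) (p ≫ terminal.from _)]; infer_instance⟩
  obtain ⟨G, hG⟩ := exists_global (CurveQuotLib.isNormal_of_smooth p) hW a
  haveI := AbSchLib.geometricallyReduced_of_smooth p
  haveI := Groth.Agent.BiextRigidLib.geometricallyConnected_of_irreducible p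
  haveI := H0Lib.isIso_appTop_of_field p
  obtain ⟨c, hc⟩ := (ConcreteCategory.bijective_of_isIso
    ((Scheme.ΓSpecIso (CommRingCat.of K)).inv ≫ p.appTop)).2 G
  refine ⟨c, ?_⟩
  rw [hG, ← hc, KLin.smul_def, Category.comp_id]
  rfl

end IdealTypeLib

end
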