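import Groth.Prelude.Def_TorSh
import Groth.Prelude.Def_ShStab
import Groth.Agent.IdealTypeLib.EndIdeal
import Groth.Agent.JetDegLib.Step
import Groth.Agent.PicOneLib.Tf
import Groth.Agent.HilbPolyLib.Basic
import Groth.Agent.AVAmpleLib.Degree
import Groth.Agent.SurfExtLib.CBGeom
import Groth.Agent.SerreExtLib.Basic
import Groth.Agent.IntMultLib.Dim0
import Groth.Agent.GenusZeroLib.Mult
import Groth.Agent.S18161

/-!
# Maps between ideal sheaves into an ideal of points
-/

set_option autoImplicit false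
set_option linter.style.haveILetI false
set_option backward.isDefEq.respectTransparency false
set_option backward.isDefEq.respectTransparency.types false
set_option maxHeartbeats 800000
universe u

open CategoryTheory CategoryTheory.Limits AlgebraicGeometry TopologicalSpace Opposite
open KFlatLib (pb)

noncomputable section

namespace IdealTypeLib

/-- The Euler characteristic of a finite scheme of degree `ℓ`. -/
theorem euler_of_degree {K : Type u} [Field K] {Z : Scheme.{u}} [Z.Over (Spec (CommRingCat.of K))]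
    {ℓ : ℕ} (hZ : Mor2.IsFinLocFreeOfDeg ℓ (Z ↘ Spec (CommRingCat.of K))) :
    IsFinite (Z ↘ Spec (CommRingCat.of K)) ∧ Curv2.euler K Z (Coh.structureModule Z) = ℓ := by
  let π := Z ↘ Spec (CommRingCat.of K)
  haveI : IsFinite π := hZ.1.1
  refine ⟨inferInstance, ?_⟩
  haveI : IsProper π := inferInstance
  haveI := CurvLib.isNoetherian K (X := Z)
  have hd : topologicalKrullDim (CohB1.support (Coh.structureModule Z)) ≤ 0 :=
    (topologicalKrullDim_subspace_le _ _).trans (IntMultLib.dim_le_zero_of_isFinite K)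
  rw [CurvLib.euler_eq_h0 (k := K) (DevissLib.isCoh_structureModule Z) hd]
  letI := GenusZeroLib.kmod K (X := Z) (Coh.structureModule Z)
  rw [(GenusZeroLib.e0k K (Coh.structureModule Z)).finrank_eq]
  haveI : IsAffine Z := isAffine_of_isAffineHom π
  let φ : CommRingCat.of K ⟶ Γ(Z, ⊤) := (Scheme.ΓSpecIso (CommRingCat.of K)).inv ≫ π.appTop
  letI : Algebra K Γ(Z, ⊤) := φ.hom.toAlgebra
  have he : Z.isoSpec.hom ≫ Spec.map (CommRingCat.ofHom (algebraMap K Γ(Z, ⊤))) = π := by
    rw [show CommRingCat.ofHom (algebraMap K Γ(Z, ⊤)) = φ from rfl, Spec.map_comp, Scheme.isoSpec_hom,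
      ← Scheme.toSpecΓ_naturality_assoc, toSpecΓ_SpecMap_ΓSpecIso_inv, Category.comp_id]
  haveI : Module.Finite K Γ(Z, ⊤) := by
    haveI : IsFinite (Spec.map (CommRingCat.ofHom (algebraMap K Γ(Z, ⊤)))) := by
      have : IsFinite (Z.isoSpec.hom ≫ Spec.map (CommRingCat.ofHom (algebraMap K Γ(Z, ⊤)))) :=
        he.symm ▸ ‹IsFinite π›
      exact (MorphismProperty.cancel_left_of_respectsIso @IsFinite _ _).1 this
    exact RingHom.finite_algebraMap.1 ((IsFinite.SpecMap_iff _).1 this)
  let x : Spec (CommRingCat.of K) := IsLocalRing.closedPoint K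
  have h1 := (Groth.Agent.S18161.finrank_spec π x Γ(Z, ⊤) Z.isoSpec he).symm.trans (hZ.2 x)
  refine Int.ofNat_inj.2 (Eq.trans ?_ h1)
  refine LinearEquiv.finrank_eq
    ({ toFun := fun a => (show Γ(Z, ⊤) from a)
       invFun := fun a => a
       left_inv := fun _ => rfl
       right_inv := fun _ => rfl
       map_add' := fun _ _ => rfl
       map_smul' := fun _ _ => rfl } : Γ(Coh.structureModule Z, ⊤) ≃ₗ[K] Γ(Z, ⊤))

variable {K : Type u} [Field K] {X : Scheme.{u}} [X.Over (Spec (CommRingCat.of K))]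
  [IsProper (X ↘ Spec (CommRingCat.of K))]

/-- The key step: an ideal inside an ideal of points meets another one through a torsion free
module of rank one and Hilbert polynomial lowered by the degree. -/
theorem comp_toSubscheme_eq_zero {L : X.Modules} (hLi : PicF.IsInvertible L) {ℓ : ℕ}
    {Z W Y : X.IdealSheafData} [IsIntegral Y.subscheme]
    (hZ : Mor2.IsFinLocFreeOfDeg ℓ (Z.subschemeι ≫ (X ↘ Spec (CommRingCat.of K))))
    (k₁ : ClSub.idealMod W ⟶ ClSub.idealMod Z) (hk : k₁ ≫ ClSub.idealModι Z = ClSub.idealModι W) (hYZ : Y ≤ Z)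
    (dag : ∀ G : Y.subscheme.Modules, Coh.IsCoh G → TorSh.IsTorsionFree G →
      Module.finrank (Y.subscheme.presheaf.stalk (genericPoint Y.subscheme))
        (G.presheaf.stalk (genericPoint Y.subscheme)) = 1 →
      (letI : Y.subscheme.Over (Spec (CommRingCat.of K)) := ⟨Y.subschemeι ≫ (X ↘ Spec (CommRingCat.of K))⟩
       ∃ P : Polynomial ℚ,
        ShStab.IsHilbPoly K Y.subscheme ((Scheme.Modules.pullback Y.subschemeι).obj L)
          (Coh.structureModule Y.subscheme) P ∧
        ShStab.IsHilbPoly K Y.subscheme ((Scheme.Modules.pullback Y.subschemeι).obj L) G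
          (P - Polynomial.C (ℓ : ℚ))) →
      ∀ φ : ClSub.idealMod W ⟶ (Coh.push Y.subschemeι).obj G, φ = 0) :
    ClSub.idealModι W ≫ ClSub.toSubscheme Y = 0 := by
  by_contra hne
  letI : Y.subscheme.Over (Spec (CommRingCat.of K)) := ⟨Y.subschemeι ≫ (X ↘ Spec (CommRingCat.of K))⟩
  letI : Z.subscheme.Over (Spec (CommRingCat.of K)) := ⟨Z.subschemeι ≫ (X ↘ Spec (CommRingCat.of K))⟩
  haveI : IsProper (Y.subscheme ↘ Spec (CommRingCat.of K)) :=
    inferInstanceAs (IsProper (Y.subschemeι ≫ (X ↘ Spec (CommRingCat.of K))))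
  haveI : IsProper (Z.subscheme ↘ Spec (CommRingCat.of K)) :=
    inferInstanceAs (IsProper (Z.subschemeι ≫ (X ↘ Spec (CommRingCat.of K))))
  haveI := CurvLib.isNoetherian K (X := X)
  haveI := CurvLib.isNoetherian K (X := Y.subscheme)
  let ι := Y.subschemeι
  let j : Z.subscheme ⟶ Y.subscheme := Scheme.IdealSheafData.inclusion hYZ
  have hj : j ≫ ι = Z.subschemeι := Scheme.IdealSheafData.inclusion_subschemeι hYZ
  haveI : IsClosedImmersion j := by
    haveI : IsClosedImmersion (j ≫ ι) := by rw [hj]; infer_instance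
    exact IsClosedImmersion.of_comp j ι
  let Z' := j.ker
  let h : ClSub.idealMod W ⟶ (Coh.push ι).obj (Coh.structureModule Y.subscheme) :=
    ClSub.idealModι W ≫ ClSub.toSubscheme Y
  have hh : h ≫ (Coh.push ι).map (ClSub.toSubscheme Z') = 0 := by
    refine Scheme.Modules.hom_ext _ _ fun U => ?_
    ext s
    let a : Γ(X, U) := fn W U s
    show Z'.subschemeι.app (ι ⁻¹ᵁ U) (ι.app U a) = 0
    have hja : j.app (ι ⁻¹ᵁ U) (ι.app U a) = 0 := by
      have h0 : Z.subschemeι.app U a = 0 := by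
        have e := congrArg (fun q => q ≫ ClSub.toSubscheme Z) hk
        simp only [Category.assoc, ClSub.idealModι, kernel.condition, comp_zero] at e
        exact congr($(e).app U s).symm
      have := congr($(Scheme.Hom.congr_app hj U) a)
      simp only [Scheme.Hom.comp_app, ConcreteCategory.comp_apply] at this
      refine this.trans ?_
      rw [h0, map_zero]
    have hti : j.toImage ≫ Z'.subschemeι = j := j.toImage_imageι
    have := congr($(Scheme.Hom.congr_app hti (ι ⁻¹ᵁ U)) (ι.app U a))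
    simp only [Scheme.Hom.comp_app, ConcreteCategory.comp_apply] at this
    rw [hja, map_zero] at this
    exact (ConcreteCategory.bijective_of_isIso (j.toImage.app (Z'.subschemeι ⁻¹ᵁ (ι ⁻¹ᵁ U)))).1
      (this.trans (map_zero _).symm)
  haveI : PreservesFiniteLimits (Coh.push ι) :=
    (Scheme.Modules.pullbackPushforwardAdjunction ι).rightAdjoint_preservesLimits.preservesFiniteLimits
  haveI : (Coh.push ι).Additive := (Scheme.Modules.pullbackPushforwardAdjunction ι).right_adjoint_additive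
  let G := ClSub.idealMod Z'
  let φ : ClSub.idealMod W ⟶ (Coh.push ι).obj G :=
    kernel.lift _ h hh ≫ (PreservesKernel.iso (Coh.push ι) (ClSub.toSubscheme Z')).inv
  have hφ : φ ≠ 0 := fun e => hne (by
    have e' : kernel.lift _ h hh = 0 := by
      rw [← cancel_mono (PreservesKernel.iso (Coh.push ι) (ClSub.toSubscheme Z')).inv, zero_comp]
      exact e
    show h = 0
    rw [← kernel.lift_ι _ h hh, e', zero_comp])
  have hGc : Coh.IsCoh G := SurfExtLib.isCoh_idealMod Z'
  haveI := hGc.1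
  have hOl := CurvLib.locFree_of_isInvertible (CurvLib.isInvertible_structureModule (X := Y.subscheme))
  haveI : Mono (ClSub.idealModι Z') := inferInstanceAs (Mono (kernel.ι _))
  have hGt : TorSh.IsTorsionFree G := PicOneLib.torsionFree_of_mono (ClSub.idealModι Z')
    (PicOneLib.torsionFree_of_isFinLocFree (CurveVBLib.isFinLocFree_of_rank hOl))
  have hQ := CurvLib.isCoh_quotMod Z'
  have hO := DevissLib.isCoh_structureModule Y.subscheme
  have hr := CurvLib.genRank_add (S := CurvLib.idealSeq Z') (CurvLib.idealSeq_shortExact Z') hGc hO hQ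
  have hG1 : CurvLib.genRank G = 1 := by
    change CurvLib.genRank (Coh.structureModule Y.subscheme) = CurvLib.genRank G + _ at hr
    rw [AVAmpleLib.genRank_structureModule] at hr
    have h0 : CurvLib.genRank G ≠ 0 := fun e0 => hφ (by
      let ψ := ((Scheme.Modules.pullbackPushforwardAdjunction ι).homEquiv _ _).symm φ
      haveI : Subsingleton (CohCmpLib.stk G (genericPoint Y.subscheme)) := PicOneLib.subsingleton_of_genRank hGc e0
      have hψ : ψ = 0 := PicOneLib.eq_zero_of_generic hGt ψ fun v => Subsingleton.elim _ _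
      have h' := congrArg ((Scheme.Modules.pullbackPushforwardAdjunction ι).homEquiv _ _) hψ
      simp only [ψ, Equiv.apply_symm_apply] at h'
      rw [h', Adjunction.homEquiv_unit, Functor.map_zero, comp_zero])
    omega
  have hLY : PicF.IsInvertible (pb ι L) := AmpleDevLib.isInvertible_pb ι hLi
  obtain ⟨P, hP⟩ := HilbPolyLib.exists_isHilbPoly' (k := K) hLY hO
  refine hφ (dag G hGc hGt hG1 ⟨P, hP, fun m => ?_⟩ φ)
  let E := CohB1.tensorPow (pb ι L) m
  have hE : PicF.IsInvertible E := PicOneLib.isInvertible_tensorPow hLY m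
  have hE1 := CurvLib.locFree_of_isInvertible hE
  have hS := CurvLib.shortExact_tensor_locFree hE1 (CurvLib.idealSeq_shortExact Z')
  have hadd := CurvLib.euler_add_of_isCoh (k := K) hS
    (QCohLib.isCoh_of_iso (HilbPolyLib.swapIso _ _) (IntMultLib.isCoh_tensor_locFree hE1 hGc))
    (QCohLib.isCoh_of_iso (HilbPolyLib.swapIso _ _) (IntMultLib.isCoh_tensor_locFree hE1 hO))
    (QCohLib.isCoh_of_iso (HilbPolyLib.swapIso _ _) (IntMultLib.isCoh_tensor_locFree hE1 hQ))
  have hj' : j ≫ (Y.subscheme ↘ Spec (CommRingCat.of K)) = Z.subscheme ↘ Spec (CommRingCat.of K) := by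
    show j ≫ ι ≫ _ = _
    rw [← Category.assoc, hj]
    rfl
  obtain ⟨hfin, hℓ⟩ := euler_of_degree (K := K) (Z := Z.subscheme) hZ
  have hq : Curv2.euler K Y.subscheme (CohB1.tensorMod (ClSub.quotMod Z') E) = ℓ := by
    rw [JetDegLib.euler_quot_closedImm K j hj' hE]
    have hZE := CurvLib.locFree_of_isInvertible (AmpleDevLib.isInvertible_pb j hE)
    haveI := CurvLib.isNoetherian K (X := Z.subscheme)
    have hdim : topologicalKrullDim (CohB1.support (Coh.structureModule Z.subscheme)) ≤ 0 :=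
      (topologicalKrullDim_subspace_le _ _).trans (IntMultLib.dim_le_zero_of_isFinite K)
    rw [CurvLib.euler_congr (k := K) (HilbPolyLib.unitLeft (pb j E)).symm,
      CurvLib.euler_tensor_locFree_of_dim_zero (DevissLib.isCoh_structureModule _) hdim hZE, hℓ]
    simp
  have h2 : Curv2.euler K Y.subscheme (CohB1.tensorMod E (ClSub.quotMod Z')) = ℓ :=
    (CurvLib.euler_congr (HilbPolyLib.swapIso _ _)).trans hq
  change Curv2.euler K Y.subscheme (CohB1.tensorMod E (Coh.structureModule Y.subscheme)) =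
    Curv2.euler K Y.subscheme (CohB1.tensorMod E G) +
      Curv2.euler K Y.subscheme (CohB1.tensorMod E (ClSub.quotMod Z')) at hadd
  rw [h2] at hadd
  have hPm := hP m
  rw [HilbPolyLib.euler_twist] at hPm
  rw [HilbPolyLib.euler_twist, Polynomial.eval_sub, Polynomial.eval_C, ← hPm, hadd]
  push_cast
  ring

variable [IsIntegral X] [Smooth (X ↘ Spec (CommRingCat.of K))]
  [GeometricallyIrreducible (X ↘ Spec (CommRingCat.of K))]

theorem finrank_hom_le_one {L : X.Modules} (hLi : PicF.IsInvertible L) {ℓ : ℕ} {J : Type u}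
    (A : J → Set X.IdealSheafData) (hA : ∀ j, ∀ W ∈ A j, IsIntegral W.subscheme ∧ W ≠ ⊥)
    (hAiso : ∀ j, ∀ W ∈ A j, ∀ W'' : X.IdealSheafData,
      Nonempty (ClSub.idealMod W'' ≅ ClSub.idealMod W) → W'' ∈ A j)
    {Z : X.IdealSheafData} (hZ : Mor2.IsFinLocFreeOfDeg ℓ (Z.subschemeι ≫ (X ↘ Spec (CommRingCat.of K))))
    (j₀ : J)
    (dag : ∀ W ∈ A j₀, ∀ Y ∈ A j₀, ∀ (_ : IsIntegral Y.subscheme) (G : Y.subscheme.Modules),
      Coh.IsCoh G → TorSh.IsTorsionFree G →
      Module.finrank (Y.subscheme.presheaf.stalk (genericPoint Y.subscheme))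
        (G.presheaf.stalk (genericPoint Y.subscheme)) = 1 →
      (letI : Y.subscheme.Over (Spec (CommRingCat.of K)) := ⟨Y.subschemeι ≫ (X ↘ Spec (CommRingCat.of K))⟩
       ∃ P : Polynomial ℚ,
        ShStab.IsHilbPoly K Y.subscheme ((Scheme.Modules.pullback Y.subschemeι).obj L)
          (Coh.structureModule Y.subscheme) P ∧
        ShStab.IsHilbPoly K Y.subscheme ((Scheme.Modules.pullback Y.subschemeι).obj L) G
          (P - Polynomial.C (ℓ : ℚ))) →
      ∀ φ : ClSub.idealMod W ⟶ (Coh.push Y.subschemeι).obj G, φ = 0)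
    {W : X.IdealSheafData} (hW : W ∈ A j₀) :
    Module.Finite K (ClSub.idealMod W ⟶ ClSub.idealMod Z) ∧
      Module.finrank K (ClSub.idealMod W ⟶ ClSub.idealMod Z) ≤ 1 := by
  haveI := CurvLib.isNoetherian K (X := X)
  haveI : ∀ B : X.IdealSheafData, Mono (ClSub.idealModι B) := fun B => inferInstanceAs (Mono (kernel.ι _))
  have hW0 := (hA j₀ W hW).2
  haveI := (SurfExtLib.isCoh_idealMod W).1
  have hWl := CurvLib.locFree_of_isInvertible (CurvLib.isInvertible_structureModule (X := X))
  have hOt : TorSh.IsTorsionFree (Coh.structureModule X) :=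
    PicOneLib.torsionFree_of_isFinLocFree (CurveVBLib.isFinLocFree_of_rank hWl)
  have hWt := PicOneLib.torsionFree_of_mono (ClSub.idealModι W) hOt
  -- a nonzero map is mono
  have hmono : ∀ φ : ClSub.idealMod W ⟶ ClSub.idealMod Z, φ ≠ 0 → Mono (φ ≫ ClSub.idealModι Z) := by
    intro φ hφ
    have hne : φ ≫ ClSub.idealModι Z ≠ 0 := fun e => hφ (by rwa [← cancel_mono (ClSub.idealModι Z), zero_comp])
    have hO := DevissLib.isCoh_structureModule X
    haveI := hO.1
    obtain ⟨v, hv⟩ : ∃ v, FLI.sMap (φ ≫ ClSub.idealModι Z) (genericPoint X) v ≠ 0 := by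
      by_contra! hc
      exact hne (PicOneLib.eq_zero_of_generic hOt _ hc)
    letI : Field (X.presheaf.stalk (genericPoint X)) := (inferInstance : Field X.functionField)
    refine PicOneLib.mono_of_generic (SurfExtLib.isCoh_idealMod W) hWt hO _
      ((injective_iff_map_eq_zero _).2 fun w hw => ?_)
    have hinj := FLI.sMap_injective (ClSub.idealModι W) (genericPoint X)
    have hv0 : v ≠ 0 := fun h => hv (by rw [h, map_zero])
    have hiv : FLI.sMap (ClSub.idealModι W) (genericPoint X) v ≠ 0 := fun h => hv0 (hinj (h.trans (map_zero _).symm))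
    have h1 : Module.finrank (X.presheaf.stalk (genericPoint X))
        ((Coh.structureModule X).presheaf.stalk (genericPoint X)) = 1 := AVAmpleLib.genRank_structureModule X
    obtain ⟨c, hc⟩ := (finrank_eq_one_iff_of_nonzero' _ hiv).1 h1 (FLI.sMap (ClSub.idealModι W) (genericPoint X) w)
    have hwv : c • v = w := hinj (by rw [map_smul]; exact hc)
    rw [← hwv, map_smul, smul_eq_zero] at hw
    rw [← hwv, hw.resolve_right hv]
    exact zero_smul _ v
  -- the image of a nonzero map
  have himg : ∀ φ : ClSub.idealMod W ⟶ ClSub.idealMod Z, φ ≠ 0 → ∃ (B : X.IdealSheafData)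
      (θ : ClSub.idealMod W ≅ ClSub.idealMod B), B ∈ A j₀ ∧ θ.hom ≫ ClSub.idealModι B = φ ≫ ClSub.idealModι Z := by
    intro φ hφ
    haveI := hmono φ hφ
    obtain ⟨B, θ, hθ⟩ := SerreExtLib.exists_ideal_of_mono (φ ≫ ClSub.idealModι Z)
    exact ⟨B, θ, hAiso j₀ W hW B ⟨θ.symm⟩, hθ⟩
  have hdep : ∀ φ ψ : ClSub.idealMod W ⟶ ClSub.idealMod Z, φ ≠ 0 → ψ ≠ 0 → ∃ c : K, c • φ = ψ := by
    intro φ ψ hφ hψ
    obtain ⟨B, θ, hB, hθ⟩ := himg φ hφ
    obtain ⟨C, θ', hC, hθ'⟩ := himg ψ hψ
    have hk : (θ.inv ≫ φ) ≫ ClSub.idealModι Z = ClSub.idealModι B := by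
      rw [Category.assoc, ← hθ, Iso.inv_hom_id_assoc]
    have hk' : (θ'.inv ≫ ψ) ≫ ClSub.idealModι Z = ClSub.idealModι C := by
      rw [Category.assoc, ← hθ', Iso.inv_hom_id_assoc]
    have hBC : B ≤ C := by
      haveI := (hA j₀ C hC).1
      have h := comp_toSubscheme_eq_zero hLi hZ _ hk (SerreExtLib.le_of_hom _ hk') fun G h1 h2 h3 h4 =>
        dag B hB C hC inferInstance G h1 h2 h3 h4
      exact SerreExtLib.le_of_hom (kernel.lift _ (ClSub.idealModι B) h) (kernel.lift_ι _ _ _)
    have hCB : C ≤ B := by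
      haveI := (hA j₀ B hB).1
      have h := comp_toSubscheme_eq_zero hLi hZ _ hk' (SerreExtLib.le_of_hom _ hk) fun G h1 h2 h3 h4 =>
        dag C hC B hB inferInstance G h1 h2 h3 h4
      exact SerreExtLib.le_of_hom (kernel.lift _ (ClSub.idealModι C) h) (kernel.lift_ι _ _ _)
    obtain rfl := le_antisymm hBC hCB
    obtain ⟨c, hc⟩ := exists_scalar (K := K) hW0 (θ'.hom ≫ θ.inv)
    refine ⟨c, ?_⟩
    haveI := hmono φ hφ
    rw [← cancel_mono (ClSub.idealModι Z), Linear.smul_comp,
      ← Category.id_comp (φ ≫ ClSub.idealModι Z), ← Linear.smul_comp, ← hc, Category.assoc, ← hθ,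
      Iso.inv_hom_id_assoc, hθ']
  by_cases h0 : ∀ φ : ClSub.idealMod W ⟶ ClSub.idealMod Z, φ = 0
  · haveI : Subsingleton (ClSub.idealMod W ⟶ ClSub.idealMod Z) := ⟨fun a b => (h0 a).trans (h0 b).symm⟩
    exact ⟨inferInstance, by rw [Module.finrank_zero_of_subsingleton]; omega⟩
  · push Not at h0
    obtain ⟨φ, hφ⟩ := h0
    have hspan : ∀ ψ, ∃ c : K, c • φ = ψ := fun ψ => by
      by_cases hψ : ψ = 0
      · exact ⟨0, by rw [hψ, zero_smul]⟩
      · exact hdep φ ψ hφ hψ
    have hfin : Module.Finite K (ClSub.idealMod W ⟶ ClSub.idealMod Z) :=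
      Module.Finite.of_surjective (LinearMap.toSpanSingleton K _ φ) hspan
    exact ⟨hfin, (finrank_le_one_iff.2 ⟨φ, hspan⟩)⟩

end IdealTypeLib

end
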